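import Groth.Agent.AlgSpB.OpenGlue
import Groth.Agent.AlgSpB.Open
import Groth.Agent.S10185
import Groth.Agent.S10453
import Groth.Agent.Props.DimZero
import Groth.Prelude.Def_AlgSpDec

/-!
# Quasi-separated algebraic spaces of dimension zero
-/

universe u

open CategoryTheory CategoryTheory.Limits AlgebraicGeometry TopologicalSpace

set_option autoImplicit false
set_option backward.isDefEq.respectTransparency false

namespace Groth.Agent.DimZeroSp

open Groth.Agent

/-- A Hausdorff scheme is separated with affine quasi-compact opens. -/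
theorem separated_and_affine (X : Scheme.{u}) [T2Space X] :
    X.IsSeparated ∧ ∀ V : X.Opens, IsCompact (V : Set ↥X) → IsAffineOpen V :=
  ⟨Props.DimZero.isSeparated_of_t2 X, fun V hV => Props.DimZero.isAffineOpen_of_isCompact V hV⟩

variable {S : Scheme.{u}}

/-- A space covered by open subschemes is a scheme. -/
theorem isRepresentable_of_forall_nhd (X : AlgSp.Space S)
    (h : ∀ x : AlgSp.Points X.obj, ∃ (X' : AlgSp.Space S) (j : X' ⟶ X), AlgSp.RepWith @IsOpenImmersion j.hom ∧
      X'.obj.obj.IsRepresentable ∧ x ∈ Set.range (AlgSp.Points.map j.hom)) :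
    X.obj.obj.IsRepresentable := by
  obtain ⟨X', j, hj, hrep, hmax⟩ := AlgSpB.exists_largest_open_subscheme X
  have hsurj : Set.range (AlgSp.Points.map j.hom) = Set.univ := by
    refine Set.eq_univ_of_forall fun x => ?_
    obtain ⟨X'', j'', hj'', hr, z, hz⟩ := h x
    obtain ⟨k, hk⟩ := hmax X'' j'' hj'' hr
    refine ⟨AlgSp.Points.map k.hom z, ?_⟩
    rw [← AlgSp.Points.map_comp, ← hz, ← hk]
    rfl
  obtain ⟨l, hl⟩ := (AlgSpB.exists_factor_isOpenImmersion_iff hj (𝟙 X.obj)).2
    (by rw [hsurj]; exact Set.subset_univ _)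
  have := AlgSpB.mono_of_isOpenImmersion hj
  obtain ⟨M, ⟨e⟩⟩ := AlgSpB.exists_iso_of_isRepresentable hrep
  exact AlgSpB.isRepresentable_of_iso (e ≪≫ ⟨j.hom, l, by
    rw [← cancel_mono j.hom, Category.assoc, hl, Category.comp_id, Category.id_comp], hl⟩)

theorem topologicalKrullDim_le_dim {F : AlgSp.Sp S} {U : Over S} {a : (AlgSp.yon S).obj U ⟶ F}
    (ha : AlgSp.RepWith @Etale a) : topologicalKrullDim ↥U.left ≤ AlgSp.dim F :=
  le_iSup_of_le U (le_iSup_of_le a (le_iSup (fun _ : AlgSp.RepWith @Etale a => topologicalKrullDim ↥U.left) ha))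

/-- A scheme which is quasi-separated as an algebraic space over a quasi-separated base is quasi-separated. -/
theorem quasiSeparatedSpace_of_iso [QuasiSeparatedSpace ↥S] (X : AlgSp.Space S) {U : Over S}
    (hX : AlgSp.IsQuasiSeparatedSp X.obj) (e : (AlgSp.yon S).obj U ≅ X.obj) :
    QuasiSeparatedSpace ↥U.left := by
  refine ⟨fun A B hA hAc hB hBc => ?_⟩
  let A' : U.left.Opens := ⟨A, hA⟩
  let B' : U.left.Opens := ⟨B, hB⟩
  let a : Over.mk (A'.ι ≫ U.hom) ⟶ U := Over.homMk A'.ι rfl
  let b : Over.mk (B'.ι ≫ U.hom) ⟶ U := Over.homMk B'.ι rfl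
  have : CompactSpace ↥(Over.mk (A'.ι ≫ U.hom)).left := isCompact_iff_compactSpace.1 hAc
  have : CompactSpace ↥(Over.mk (B'.ι ≫ U.hom)).left := isCompact_iff_compactSpace.1 hBc
  have sq := (IsPullback.of_hasPullback a b).map (AlgSp.yon S)
  have sq' : IsPullback ((AlgSp.yon S).map (pullback.fst a b)) ((AlgSp.yon S).map (pullback.snd a b))
      ((AlgSp.yon S).map a ≫ e.hom) ((AlgSp.yon S).map b ≫ e.hom) :=
    sq.of_iso (Iso.refl _) (Iso.refl _) (Iso.refl _) e (by simp) (by simp) (by simp) (by simp)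
  have hc := S10185.result X hX _ _ _ _ _ _ _ sq'
  have e1 : IsPullback (pullback.fst a b).left (pullback.snd a b).left a.left b.left :=
    (IsPullback.of_hasPullback a b).map (Over.forget S)
  have hr : Set.range ((pullback.fst a b).left ≫ a.left) = A ∩ B := by
    have : IsOpenImmersion a.left := inferInstanceAs (IsOpenImmersion A'.ι)
    have : IsOpenImmersion b.left := inferInstanceAs (IsOpenImmersion B'.ι)
    have h2 : Set.range (pullback.fst a.left b.left ≫ a.left) = A ∩ B := by
      rw [IsOpenImmersion.range_pullback_to_base_of_left]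
      show Set.range A'.ι ∩ Set.range B'.ι = A ∩ B
      rw [Scheme.Opens.range_ι, Scheme.Opens.range_ι]
      rfl
    rw [← h2, ← e1.isoPullback_hom_fst, Category.assoc, Scheme.Hom.comp_base, TopCat.coe_comp,
      Set.range_comp, e1.isoPullback.hom.surjective.range_eq, Set.image_univ]
  rw [← hr]
  exact isCompact_range ((pullback.fst a b).left ≫ a.left).continuous

theorem isScheme_of_dim_zero [QuasiSeparatedSpace ↥S] (X : AlgSp.Space S) (hqs : AlgSp.IsQuasiSeparatedSp X.obj)
    (hd : AlgSp.dim X.obj ≤ 0) :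
    ∃ (U : Over S) (_ : (AlgSp.yon S).obj U ≅ X.obj), T2Space ↥U.left := by
  have hx : ∀ x : AlgSp.Points X.obj, AlgSp.HasAt (fun U u => ringKrullDim ↥(U.presheaf.stalk u) = 0) X.obj x := by
    intro x
    obtain ⟨U, a, u, ha, rfl⟩ := AlgSpD.exists_chart X x
    have : T1Space ↥U.left :=
      Props.DimZero.t1Space_of_topologicalKrullDim_le_zero ((topologicalKrullDim_le_dim ha).trans hd)
    rw [Groth.Agent.AlgSp.codim0_iff_chart ha, FlatMor.GenericPts.closure_mem_irreducibleComponents_iff]
    intro z hz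
    exact specializes_of_eq hz.eq.symm
  obtain ⟨U, ⟨e⟩⟩ := AlgSpB.exists_iso_of_isRepresentable
    (isRepresentable_of_forall_nhd X fun x => S10453.result X hqs x (hx x))
  have he : AlgSp.RepWith @Etale e.hom := AlgSpB.repWith_of_isIso (P := @Etale) e.hom
  have : T1Space ↥U.left :=
    Props.DimZero.t1Space_of_topologicalKrullDim_le_zero ((topologicalKrullDim_le_dim he).trans hd)
  have := quasiSeparatedSpace_of_iso X hqs e
  exact ⟨U, e, Props.DimZero.t2Space_of_quasiSeparated_t1 U.left⟩

end Groth.Agent.DimZeroSp
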